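import Cfsg.Agent.Lib.Invol.SECriterion.Lone.Main
import Cfsg.Agent.Lib.Invol.SECriterion.Local.OfComm

/-!
# The strong embedding criterion: reduction to groups generated by the conjugates of `z`

By induction it suffices to treat the groups in which the normal closure of `z` is everything.  In
these every bad involution centralizes two commuting distinct conjugates of `z`.
-/

set_option autoImplicit false

namespace CfsgLib.SECrit

open CfsgLib.Invol Subgroup

universe u

variable {G : Type u} [Group G] [Finite G] {M : Subgroup G} {z : G}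

namespace Setup

variable (h : Setup M z)
include h

/-- In a generated group every bad involution centralizes a commuting pair. -/
theorem not_lone_of_top (hgen : normalClosure ({z} : Set G) = ⊤) {x : G} (hx : IsBad M x) :
    ¬ IsLone z x := fun hl => h.lone_not_mem hx hl (hgen ▸ mem_top x)

/-- In a generated group every bad involution centralizes a commuting pair. -/
theorem exists_pair_of_top (hgen : normalClosure ({z} : Set G) = ⊤) {x : G} (hx : IsBad M x) :
    ∃ d e : G, IsConj z d ∧ IsConj z e ∧ Commute x d ∧ Commute x e ∧ Commute d e ∧ d ≠ e := by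
  have hl := h.not_lone_of_top hgen hx
  simp only [IsLone] at hl
  push Not at hl
  exact hl

/-- In a generated group the interface for every bad involution follows from a central kernel. -/
theorem local_of_top (hgen : normalClosure ({z} : Set G) = ⊤)
    (hker : ∀ x : G, IsBad M x → ∀ k ∈ locKer M z x, ∀ g ∈ locGroup z x, Commute k g) :
    ∀ x : G, IsBad M x → Local M z x := by
  intro x hx
  obtain ⟨d, e, hd, he, hxd, hxe, hde, hne⟩ := h.exists_pair_of_top hgen hx
  have hk := hker x hx
  obtain ⟨hxo, p, q, hpq, hp, hq⟩ := hx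
  exact h.local_of_ker_comm hxo hpq hp hq hk hd he hxd hxe hde hne

/-- The conclusion from that in the normal closure of `z`. -/
theorem concl_of_normalClosure
    (htop : ∀ (G' : Type u) [Group G'] [Finite G'] (M' : Subgroup G') (z' : G'), Setup M' z' →
      normalClosure ({z'} : Set G') = ⊤ → Concl M' z') : Concl M z := by
  set L := normalClosure ({z} : Set G) with hL
  by_cases hgen : L = ⊤
  · exact htop G M z h hgen
  have hzL : z ∈ L := subset_normalClosure (Set.mem_singleton z)
  have hDL : ∀ {d : G}, IsConj z d → d ∈ L := fun {d} hd => by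
    obtain ⟨k, rfl⟩ := isConj_iff.1 hd
    exact normalClosure_normal.conj_mem _ hzL k
  set p : G ⧸ M := ((1 : G) : G ⧸ M) with hp
  have hstab : MulAction.stabilizer G p = M := by
    ext g
    rw [MulAction.mem_stabilizer_iff, hp, smul_coe_eq_iff]
    simp
  have hzp : z • p = p := by rw [hp, smul_coe_eq_iff]; simpa using h.crit.mem
  have hmove : ∃ g ∈ L, g • p ≠ p := by
    by_contra hh
    push Not at hh
    have hle : L ≤ M := fun g hg => hstab ▸ MulAction.mem_stabilizer_iff.2 (hh g hg)
    have := (normal_le_normalCore (H := M)).2 hle hzL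
    rw [h.core, mem_bot] at this
    exact invol_ne_one h.crit.invol this
  have hc : Crit (M.subgroupOf L) (⟨z, hzL⟩ : L) := by
    have := h.sub_crit (IsConj.refl z) hzL hzp hmove
    rwa [hstab] at this
  have hne : M.subgroupOf L ≠ ⊤ := fun e => by
    obtain ⟨g, hg, hgp⟩ := hmove
    refine hgp ?_
    have : g ∈ M := subgroupOf_eq_top.1 e hg
    rw [← hstab] at this
    exact this
  have hcore : (M.subgroupOf L).normalCore = ⊥ := by
    refine eq_bot_iff.2 fun n hn => mem_bot.2 (Subtype.ext ?_)
    refine mem_bot.1 (h.core ▸ mem_core_of_forall_smul fun a => ?_)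
    obtain ⟨l, hl, rfl⟩ : ∃ l ∈ L, (l : G ⧸ M) = a := by
      by_cases hap : a = p
      · exact ⟨1, one_mem _, hap.symm⟩
      obtain ⟨e, he, hea⟩ := h.crit.exists_fixing a
      obtain ⟨g, hg, hge⟩ := h.crit.exists_midpoint (IsConj.refl z) he hzp hea (Ne.symm hap)
      refine ⟨g, hDL hg, ?_⟩
      have := h.crit.smul_eq_of_conj he hge hzp hea
      rwa [hp, MulAction.Quotient.smul_coe, smul_eq_mul, mul_one] at this
    have h1 := hn (⟨l, hl⟩ : L)⁻¹
    rw [smul_coe_eq_iff]
    simpa [mem_subgroupOf] using h1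
  have hlt : Nat.card L < Nat.card G :=
    lt_of_le_of_ne (Subgroup.card_le_card_group L) fun e => hgen (eq_top_of_card_eq L e)
  have hC := h.ih L hlt (M.subgroupOf L) ⟨z, hzL⟩ hc hne hcore
  -- the conjugates form one class of `L`
  have hclass : ∀ d : L, IsConj z (d : G) → IsConj (⟨z, hzL⟩ : L) d := by
    intro d hd
    obtain ⟨b, hb⟩ := h.crit.fix_exists hd
    obtain ⟨q, hq⟩ := h.exists_ne_point p
    obtain ⟨e, he, heq⟩ := h.crit.exists_fixing q
    have key : ∀ {u v : L}, IsConj z (u : G) → IsConj z (v : G) → ∀ {r s : G ⧸ M},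
        (u : G) • r = r → (v : G) • s = s → r ≠ s → IsConj u v := fun {u v} hu hv r s hur hvs hrs =>
      Invol.isConj_of_odd (by rw [← orderOf_coe]; exact h.crit.orderOf_conj hu)
        (by rw [← orderOf_coe]; exact h.crit.orderOf_conj hv)
        (by rw [← orderOf_coe]; exact h.crit.odd_mul hu hv hur hvs hrs)
    have h1 : IsConj (⟨z, hzL⟩ : L) (⟨e, hDL he⟩ : L) := key (IsConj.refl z) he hzp heq hq.symm
    by_cases hbq : b = q
    · exact key (IsConj.refl z) hd hzp hb (hbq ▸ hq.symm)
    · exact h1.trans (key he hd heq hb (Ne.symm hbq))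
  intro x hx hxo
  have hxz : (⟨x, hx⟩ : L) ∈ normalClosure ({⟨z, hzL⟩} : Set L) := by
    suffices ∀ y ∈ L, ∃ w : L, w ∈ normalClosure ({⟨z, hzL⟩} : Set L) ∧ (w : G) = y by
      obtain ⟨w, hw, e⟩ := this x hx
      rwa [show (⟨x, hx⟩ : L) = w from Subtype.ext e.symm]
    intro y hy
    induction hy using closure_induction with
    | mem d hd =>
      obtain ⟨w, hw, hwd⟩ := Group.mem_conjugatesOfSet_iff.1 hd
      rw [Set.mem_singleton_iff.1 hw] at hwd
      refine ⟨⟨d, hDL hwd⟩, ?_, rfl⟩
      obtain ⟨k, hk⟩ := isConj_iff.1 (hclass ⟨d, hDL hwd⟩ hwd)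
      rw [← hk]
      exact normalClosure_normal.conj_mem _ (subset_normalClosure (Set.mem_singleton _)) k
    | one => exact ⟨1, one_mem _, rfl⟩
    | mul a b _ _ iha ihb =>
      obtain ⟨u, hu, rfl⟩ := iha
      obtain ⟨v, hv, rfl⟩ := ihb
      exact ⟨u * v, mul_mem hu hv, rfl⟩
    | inv a _ iha =>
      obtain ⟨u, hu, rfl⟩ := iha
      exact ⟨u⁻¹, inv_mem hu, rfl⟩
  obtain ⟨k, hk⟩ := isConj_iff.1 (hC _ hxz (by rw [orderOf_mk]; exact hxo))
  exact isConj_iff.2 ⟨(k : G), congrArg Subtype.val hk⟩

end Setup

/-- The criterion from: in a generated group there is no bad involution with a commuting pair. -/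
theorem critThm_of_top
    (hbad : ∀ (G : Type u) [Group G] [Finite G] (M : Subgroup G) (z : G), Setup M z →
      normalClosure ({z} : Set G) = ⊤ → ∀ x : G, IsBad M x →
        (∃ d e : G, IsConj z d ∧ IsConj z e ∧ Commute x d ∧ Commute x e ∧ Commute d e ∧ d ≠ e) → False) :
    CritThm.{u} :=
  critThm_of_setup fun _ _ _ _ _ h => h.concl_of_normalClosure fun G' _ _ M' z' h' hgen =>
    h'.concl_of_bad fun x hx => (hbad G' M' z' h' hgen x hx (h'.exists_pair_of_top hgen hx)).elim

end CfsgLib.SECrit
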