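import Cfsg.Agent.Lib.Invol.NormalFourExists
import Cfsg.Agent.Lib.Invol.MaxClassTwo
import Cfsg.Agent.Lib.Invol.Basic
import Cfsg.Agent.Lib.Invol.NormalizerCriterion
import Cfsg.Agent.Lib.Coprime.Solvable
import Mathlib.GroupTheory.GroupAction.CardCommute

/-!
# The strong embedding criterion, lone involutions: the two-group step

`D` is an invariant set of involutions of a two-group, containing the central involution `z`, `X` a
set of involutions outside `D` each commuting with `z` only among the members of `D`.  Then a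
subgroup of index two avoids `X`.
-/

set_option autoImplicit false

namespace CfsgLib.SECrit.Lone

open Subgroup CfsgLib.Invol

variable {P : Type*} [Group P]

/-- The hypotheses on the two-group. -/
structure LoneData (z : P) (D X : Set P) : Prop where
  central : ∀ g : P, Commute g z
  mem : z ∈ D
  invol : ∀ d ∈ D, orderOf d = 2
  invol_X : ∀ y ∈ X, orderOf y = 2
  conj : ∀ d ∈ D, ∀ g : P, g * d * g⁻¹ ∈ D
  mulD : ∀ d ∈ D, ∀ e ∈ D, d ≠ e → Commute d e → d * e ∈ D
  comm : ∀ c : P, orderOf c = 2 → c ∉ D → ∀ d ∈ D, ∀ e ∈ D, Commute c d → Commute c e → Commute d e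
  disjoint : ∀ y ∈ X, y ∉ D
  lone : ∀ y ∈ X, ∀ d ∈ D, Commute y d → d = z
  fusion : ∀ u ∈ D, u ≠ z →
    (∀ u' ∈ D, u' ≠ z → Nat.card (centralizer ({u'} : Set P)) ≤ Nat.card (centralizer ({u} : Set P))) →
    centralizer ({u} : Set P) ≠ ⊤ → ∀ c : P, Commute c u → c * c = z →
    ∃ c' : P, Commute c' u ∧ c' * c' ∈ D ∧ c' * c' ≠ z ∧ c' * c' ≠ u

namespace LoneData

variable {z : P} {D X : Set P} (h : LoneData z D X)
include h

theorem avoid_of_centralizer [Finite P] {e : P} (he : e ∈ D) (hez : e ≠ z) :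
    ∀ y ∈ centralizer ({e} : Set P), y ∉ X := fun _ hy hyX =>
  hez (h.lone _ hyX e he (mem_centralizer_singleton_iff.1 hy))

/-- A member other than `z` with a centralizer of index at most two gives the subgroup. -/
theorem exists_of_index [Finite P] (hP : IsPGroup 2 P) {e : P} (he : e ∈ D) (hez : e ≠ z)
    (hi : (centralizer ({e} : Set P)).index ≤ 2) : ∃ U : Subgroup P, U.index = 2 ∧ ∀ y ∈ U, y ∉ X := by
  haveI : Fact (Nat.Prime 2) := ⟨Nat.prime_two⟩
  rcases eq_or_ne (centralizer ({e} : Set P)).index 2 with h2 | h2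
  · exact ⟨_, h2, h.avoid_of_centralizer he hez⟩
  · have htop : centralizer ({e} : Set P) = ⊤ := index_eq_one.1 (by
      have := index_ne_zero_of_finite (H := centralizer ({e} : Set P))
      omega)
    haveI : Nontrivial P := ⟨e, 1, invol_ne_one (h.invol e he)⟩
    obtain ⟨n, hn⟩ := hP.nontrivial_iff_card.1 ‹Nontrivial P›
    obtain ⟨U, hU⟩ := Sylow.exists_subgroup_card_pow_prime 2
      (show 2 ^ (n - 1) ∣ Nat.card P by rw [hn.2]; exact pow_dvd_pow 2 (by omega))
    refine ⟨U, ?_, fun y _ => h.avoid_of_centralizer he hez y (htop ▸ mem_top y)⟩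
    have := U.card_mul_index
    rw [hU, hn.2, show 2 ^ n = 2 ^ (n - 1) * 2 by rw [← pow_succ, Nat.sub_add_cancel hn.1]] at this
    exact Nat.eq_of_mul_eq_mul_left (pow_pos two_pos _) this

/-- An invariant set of members other than `z` of size twice an odd number contains one with a
centralizer of index at most two. -/
theorem exists_small [Finite P] (hP : IsPGroup 2 P) (W : Set P)
    (hconj : ∀ w ∈ W, ∀ g : P, g * w * g⁻¹ ∈ W) (hcard : Nat.card W % 4 = 2) :
    ∃ w ∈ W, (centralizer ({w} : Set P)).index ≤ 2 := by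
  classical
  haveI : Fact (Nat.Prime 2) := ⟨Nat.prime_two⟩
  by_contra hh
  push Not at hh
  letI : MulAction P W :=
    { smul := fun g w => ⟨g * w.1 * g⁻¹, hconj w.1 w.2 g⟩
      one_smul := fun w => Subtype.ext (show (1 : P) * w.1 * (1 : P)⁻¹ = w.1 by simp)
      mul_smul := fun g k w => Subtype.ext (show g * k * w.1 * (g * k)⁻¹ = g * (k * w.1 * k⁻¹) * g⁻¹ by
        simp [mul_assoc]) }
  letI := Fintype.ofFinite W
  letI := Fintype.ofFinite (Quotient (MulAction.orbitRel P W))
  have h4 : ∀ w : W, 4 ∣ Nat.card (MulAction.orbit P w) := by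
    intro w
    obtain ⟨n, hn⟩ := hP.card_orbit w
    have e : (MulAction.stabilizer P w) = centralizer ({w.1} : Set P) := by
      ext g
      rw [MulAction.mem_stabilizer_iff, mem_centralizer_singleton_iff]
      exact ⟨fun e1 => mul_inv_eq_iff_eq_mul.1 (congrArg Subtype.val e1),
        fun e1 => Subtype.ext (show g * w.1 * g⁻¹ = w.1 from mul_inv_eq_iff_eq_mul.2 e1)⟩
    have h2 : 2 < 2 ^ n := by
      rw [← hn, Nat.card_coe_set_eq, ← MulAction.index_stabilizer, e]
      exact hh w.1 w.2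
    rw [hn]
    have : 2 ≤ n := by
      rcases n with - | - | n <;> simp_all
    exact dvd_trans (by norm_num) (pow_dvd_pow 2 this)
  have : 4 ∣ Nat.card W := by
    rw [Nat.card_congr (MulAction.selfEquivSigmaOrbits P W), Nat.card_sigma]
    exact Finset.dvd_sum fun q _ => h4 q.out
  omega

/-- Pairwise commuting members closed under conjugation give the subgroup. -/
theorem exists_of_commuting [Finite P] (hP : IsPGroup 2 P) (W : Set P) (hWD : W ⊆ D) (hzW : z ∈ W)
    (hne : ∃ d ∈ W, d ≠ z) (hconj : ∀ w ∈ W, ∀ g : P, g * w * g⁻¹ ∈ W)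
    (hcomm : ∀ a ∈ W, ∀ b ∈ W, Commute a b) (hmul : ∀ a ∈ W, ∀ b ∈ W, a ≠ b → a * b ∈ W) :
    ∃ U : Subgroup P, U.index = 2 ∧ ∀ y ∈ U, y ∉ X := by
  classical
  haveI : Fact (Nat.Prime 2) := ⟨Nat.prime_two⟩
  let E : Subgroup P :=
    { carrier := {g | g = 1 ∨ g ∈ W}
      one_mem' := Or.inl rfl
      inv_mem' := by
        rintro g (rfl | hg)
        · exact Or.inl inv_one
        · exact Or.inr (by rwa [invol_inv (h.invol g (hWD hg))])
      mul_mem' := by
        rintro a b (rfl | ha) (rfl | hb)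
        · exact Or.inl (one_mul 1)
        · rw [one_mul]; exact Or.inr hb
        · rw [mul_one]; exact Or.inr ha
        · rcases eq_or_ne a b with rfl | hab
          · exact Or.inl (invol_mul_self (h.invol a (hWD ha)))
          · exact Or.inr (hmul a ha b hb hab) }
  obtain ⟨n, hn⟩ := (hP.to_subgroup E).exists_card_eq
  have h1W : (1 : P) ∉ W := fun hh => invol_ne_one (h.invol 1 (hWD hh)) rfl
  set W' := W \ {z} with hW'
  have hcard : Nat.card W' + 2 = Nat.card E := by
    have e1 : (E : Set P) = insert 1 W := rfl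
    rw [Nat.card_coe_set_eq, hW']
    calc (W \ {z}).ncard + 2 = W.ncard + 1 := by
          rw [← Set.ncard_diff_singleton_add_one hzW (Set.toFinite _)]
      _ = (E : Set P).ncard := by rw [e1, Set.ncard_insert_of_notMem h1W (Set.toFinite _)]
      _ = Nat.card E := (Nat.card_coe_set_eq _).symm
  obtain ⟨d, hd, hdz⟩ := hne
  have hpos : 0 < Nat.card W' := by
    haveI : Nonempty W' := ⟨⟨d, hd, hdz⟩⟩
    exact Nat.card_pos
  have h2 : 2 ≤ n := by
    rcases n with - | - | n
    · rw [hn, pow_zero] at hcard; omega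
    · rw [hn] at hcard; omega
    · omega
  have h4 : Nat.card W' % 4 = 2 := by
    have : 4 ∣ Nat.card E := by rw [hn]; exact dvd_trans (by norm_num) (pow_dvd_pow 2 h2)
    omega
  obtain ⟨w, ⟨hw, hwz⟩, hi⟩ := h.exists_small hP W' (fun w hw g => ⟨hconj w hw.1 g, fun e => hw.2 (by
    have : g * w * g⁻¹ = z := e
    show w = z
    calc w = g⁻¹ * (g * w * g⁻¹) * g := by group
      _ = g⁻¹ * z * g := by rw [this]
      _ = z := by rw [mul_assoc, ← (h.central g).eq, inv_mul_cancel_left])⟩) h4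
  exact h.exists_of_index hP (hWD hw) hwz hi

/-- A cyclic subgroup of index two gives the subgroup. -/
theorem exists_of_frame [Finite P] {k : ℕ} {r e : ℤ} {a b : P} (ht : IsStdType k r e)
    (F : CyclicFrame (2 ^ k) r e a b) {u : P} (hu : u ∈ D) (huz : u ≠ z) :
    ∃ U : Subgroup P, U.index = 2 ∧ ∀ y ∈ U, y ∉ X := by
  haveI : Fact (Nat.Prime 2) := ⟨Nat.prime_two⟩
  have hk : 2 ≤ k := ht.1
  have hr4 : r % 4 = 3 := by
    rcases ht.2 with ⟨rfl, -⟩ | ⟨hk3, rfl, -⟩
    · rfl
    · have : (4 : ℤ) ∣ 2 ^ (k - 1) := dvd_trans (by norm_num) (pow_dvd_pow 2 (show 2 ≤ k - 1 by omega))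
      omega
  have h4N : (4 : ℤ) ∣ 2 ^ k := dvd_trans (by norm_num) (pow_dvd_pow 2 hk)
  have h2N : (2 : ℤ) ∣ 2 ^ k := dvd_trans (by norm_num) h4N
  have hN : (((2 ^ k : ℕ) : ℤ)) = 2 ^ k := by push_cast; rfl
  -- involutions in the cyclic subgroup
  have huniq : ∀ i j : ℤ, orderOf (a ^ i) = 2 → orderOf (a ^ j) = 2 → a ^ i = a ^ j := by
    intro i j hi hj
    have key : ∀ i : ℤ, orderOf (a ^ i) = 2 → ∃ l : ℤ, i = 2 ^ (k - 1) * (2 * l + 1) := by
      intro i hi
      have e1 : a ^ (i * 2) = 1 := by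
        rw [zpow_mul, show (a ^ i) ^ (2 : ℤ) = (a ^ i) ^ 2 from zpow_natCast _ 2, ← hi, pow_orderOf_eq_one]
      have e2 : a ^ i ≠ 1 := invol_ne_one hi
      rw [F.zpow_eq_one_iff, hN] at e1
      rw [Ne, F.zpow_eq_one_iff, hN] at e2
      have hsplit : (2 : ℤ) ^ k = 2 ^ (k - 1) * 2 := by rw [← pow_succ, Nat.sub_add_cancel (by omega)]
      obtain ⟨c, hc⟩ := e1
      rw [hsplit] at hc e2
      have hc' : i = 2 ^ (k - 1) * c := by linarith
      rcases Int.even_or_odd' c with ⟨l, rfl | rfl⟩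
      · exact absurd ⟨l, by rw [hc']; ring⟩ e2
      · exact ⟨l, hc'⟩
    obtain ⟨l, rfl⟩ := key i hi
    obtain ⟨l', rfl⟩ := key j hj
    rw [zpow_eq_zpow_iff_modEq, F.ord, Int.modEq_iff_dvd, hN]
    refine ⟨l' - l, ?_⟩
    rw [show (2 : ℤ) ^ k = 2 ^ (k - 1) * 2 by rw [← pow_succ, Nat.sub_add_cancel (by omega)]]
    ring
  obtain ⟨iz, hiz⟩ : ∃ i : ℤ, z = a ^ i := by
    obtain ⟨i, hi | hi⟩ := F.exists_eq z
    · exact ⟨i, hi⟩
    · exfalso
      have h1 : z * a * z⁻¹ = a := by rw [← (h.central a).eq, mul_inv_cancel_right]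
      have hb : b * a * b⁻¹ = a ^ r := F.conj
      have h2 : z * a * z⁻¹ = a ^ r := by
        rw [hi, show a ^ i * b * a * (a ^ i * b)⁻¹ = a ^ i * (b * a * b⁻¹) * (a ^ i)⁻¹ by group, hb,
          ← zpow_add, ← zpow_neg, ← zpow_add, show i + r + -i = r by ring]
      have h3 : a ^ (1 : ℤ) = a ^ r := by rw [zpow_one]; exact h1.symm.trans h2
      rw [zpow_eq_zpow_iff_modEq, F.ord, Int.modEq_iff_dvd, hN] at h3
      have := dvd_trans h4N h3
      omega
  obtain ⟨iu, hiu⟩ : ∃ i : ℤ, u = a ^ i * b := by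
    obtain ⟨i, hi | hi⟩ := F.exists_eq u
    · exact absurd (hi.trans ((huniq i iz (hi ▸ h.invol u hu) (hiz ▸ h.invol z h.mem)).trans hiz.symm)) huz
    · exact ⟨i, hi⟩
  have Fu : CyclicFrame (2 ^ k) r 0 a u :=
    ⟨F.ord, F.card, fun hh => by
      obtain ⟨j, hj⟩ := mem_zpowers_iff.1 hh
      exact F.zpow_ne_mul j iu (hj.trans hiu), by
      rw [hiu, show a ^ iu * b * a * (a ^ iu * b)⁻¹ = a ^ iu * (b * a * b⁻¹) * (a ^ iu)⁻¹ by group, F.conj,
        ← zpow_add, ← zpow_neg, ← zpow_add, show iu + r + -iu = r by ring],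
      by rw [invol_mul_self (h.invol u hu), zpow_zero], F.pos⟩
  have hua : ∀ i : ℤ, u * a ^ i = a ^ (r * i) * u := fun i => Fu.b_mul_zpow i
  let U : Subgroup P :=
    { carrier := {y | ∃ j : ℤ, y = a ^ (2 * j) ∨ y = a ^ (2 * j) * u}
      one_mem' := ⟨0, Or.inl (by simp)⟩
      inv_mem' := by
        rintro y ⟨j, rfl | rfl⟩
        · exact ⟨-j, Or.inl (by rw [← zpow_neg]; congr 1; ring)⟩
        · refine ⟨-(r * j), Or.inr ?_⟩
          rw [mul_inv_rev, invol_inv (h.invol u hu), ← zpow_neg, hua]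
          congr 2; ring
      mul_mem' := by
        rintro y y' ⟨i, rfl | rfl⟩ ⟨j, rfl | rfl⟩
        · exact ⟨i + j, Or.inl (by rw [← zpow_add]; congr 1; ring)⟩
        · exact ⟨i + j, Or.inr (by rw [← mul_assoc, ← zpow_add]; congr 2; ring)⟩
        · exact ⟨i + r * j, Or.inr (by rw [mul_assoc, hua, ← mul_assoc, ← zpow_add]; congr 2; ring)⟩
        · refine ⟨i + r * j, Or.inl ?_⟩
          rw [mul_assoc, ← mul_assoc u, hua, mul_assoc (a ^ (r * (2 * j))), invol_mul_self (h.invol u hu), mul_one,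
            ← zpow_add]
          congr 1; ring }
  refine ⟨U, index_eq_two_iff.2 ⟨a, fun y => ?_⟩, ?_⟩
  · have hmem : ∀ i : ℤ, (a ^ i ∈ U ↔ (2 : ℤ) ∣ i) ∧ (a ^ i * u ∈ U ↔ (2 : ℤ) ∣ i) := by
      intro i
      refine ⟨⟨?_, fun ⟨j, hj⟩ => ⟨j, Or.inl (by rw [hj])⟩⟩, ⟨?_, fun ⟨j, hj⟩ => ⟨j, Or.inr (by rw [hj])⟩⟩⟩
      · rintro ⟨j, hj | hj⟩
        · rw [zpow_eq_zpow_iff_modEq, F.ord, Int.modEq_iff_dvd, hN] at hj
          have := dvd_trans h2N hj
          omega
        · exact absurd hj (Fu.zpow_ne_mul _ _)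
      · rintro ⟨j, hj | hj⟩
        · exact absurd hj.symm (Fu.zpow_ne_mul _ _)
        · have hj' := mul_right_cancel hj
          rw [zpow_eq_zpow_iff_modEq, F.ord, Int.modEq_iff_dvd, hN] at hj'
          have := dvd_trans h2N hj'
          omega
    obtain ⟨i, rfl | rfl⟩ := Fu.exists_eq y
    · rw [show a ^ i * a = a ^ (i + 1) by rw [zpow_add_one], (hmem _).1, (hmem _).1]
      rcases Int.even_or_odd' i with ⟨l, rfl | rfl⟩
      · exact Or.inr ⟨⟨l, rfl⟩, by omega⟩
      · exact Or.inl ⟨⟨l + 1, by ring⟩, by omega⟩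
    · rw [show a ^ i * u * a = a ^ (i + r) * u by
        rw [mul_assoc, show u * a = u * a ^ (1 : ℤ) by rw [zpow_one], hua, mul_one, ← mul_assoc, ← zpow_add],
        (hmem _).2, (hmem _).2]
      rcases Int.even_or_odd' i with ⟨l, rfl | rfl⟩
      · exact Or.inr ⟨⟨l, rfl⟩, by omega⟩
      · exact Or.inl ⟨by omega, by omega⟩
  · rintro y ⟨j, rfl | rfl⟩ hyX
    · refine h.disjoint _ hyX ?_
      rw [huniq (2 * j) iz (h.invol_X _ hyX) (hiz ▸ h.invol z h.mem), ← hiz]
      exact h.mem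
    · refine h.disjoint _ hyX ?_
      obtain ⟨hf, hhf⟩ : ∃ hf : ℤ, 1 - r = 2 * hf ∧ IsCoprime hf (2 ^ k) := by
        refine ⟨(1 - r) / 2, by omega, IsCoprime.pow_right ?_⟩
        exact ((Int.prime_two.coprime_iff_not_dvd).2 (by omega)).symm
      obtain ⟨s, t, hst⟩ := hhf.2
      have e1 : a ^ (2 * j) * u = a ^ (j * s) * u * (a ^ (j * s))⁻¹ := by
        rw [mul_assoc (a ^ (j * s)), ← zpow_neg, hua, ← mul_assoc, ← zpow_add]
        congr 1
        rw [zpow_eq_zpow_iff_modEq, F.ord, Int.modEq_iff_dvd, hN]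
        exact ⟨-(2 * j * t), by linear_combination (j * s) * hhf.1 + (2 * j) * hst⟩
      rw [e1]
      exact h.conj u hu _

/-- **The two-group step.** -/
theorem exists_avoiding [Finite P] (hP : IsPGroup 2 P) (hpair : ∃ d ∈ D, d ≠ z) :
    ∃ U : Subgroup P, U.index = 2 ∧ ∀ y ∈ U, y ∉ X := by
  classical
  haveI : Fact (Nat.Prime 2) := ⟨Nat.prime_two⟩
  by_cases hsmall : ∃ e ∈ D, e ≠ z ∧ (centralizer ({e} : Set P)).index ≤ 2
  · obtain ⟨e, he, hez, hi⟩ := hsmall
    exact h.exists_of_index hP he hez hi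
  push Not at hsmall
  obtain ⟨d₀, hd₀, hd₀z⟩ := hpair
  by_cases hfour : ∃ B : Subgroup P, B.Normal ∧ IsMulCommutative B ∧ ¬ IsCyclic B
  swap
  · push Not at hfour
    rcases cyclic_or_std hP hfour with hc | ⟨-, k, r, e, a, b, ht, F, -⟩
    · exfalso
      obtain ⟨a, ha⟩ := hc.exists_generator
      have hd2 : d₀ ^ 2 = 1 := by rw [pow_two, invol_mul_self (h.invol d₀ hd₀)]
      have hz2 : z ^ 2 = 1 := by rw [pow_two, invol_mul_self (h.invol z h.mem)]
      letI := Fintype.ofFinite P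
      have hcard := IsCyclic.card_pow_eq_one_le (α := P) (n := 2) (by norm_num)
      have h3 : ({1, z, d₀} : Finset P) ⊆ Finset.univ.filter fun g => g ^ 2 = 1 := by
        intro g hg
        simp only [Finset.mem_insert, Finset.mem_singleton] at hg
        refine Finset.mem_filter.2 ⟨Finset.mem_univ _, ?_⟩
        rcases hg with e | e | e <;> rw [e]
        exacts [one_pow 2, hz2, hd2]
      have := (Finset.card_le_card h3).trans hcard
      rw [Finset.card_insert_of_notMem (by
        simp [(invol_ne_one (h.invol z h.mem)).symm, (invol_ne_one (h.invol d₀ hd₀)).symm]),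
        Finset.card_pair hd₀z.symm] at this
      omega
    · exact h.exists_of_frame ht F hd₀ hd₀z
  obtain ⟨B, hBn, hBab, hBc⟩ := hfour
  obtain ⟨N, hNn, hN4, hNexp⟩ := exists_normal_four_of_abelian hP hBn hBab hBc
  haveI := hNn
  haveI : Nontrivial P := ⟨d₀, 1, invol_ne_one (h.invol d₀ hd₀)⟩
  haveI := hP.center_nontrivial
  -- `z` is the only central involution, else the members commute
  have hcen : ∀ c : P, orderOf c = 2 → (∀ g : P, Commute g c) → c = z ∨
      ∃ U : Subgroup P, U.index = 2 ∧ ∀ y ∈ U, y ∉ X := by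
    intro c hc hcc
    by_cases hcD : c ∈ D
    · by_cases hcz : c = z
      · exact Or.inl hcz
      · have htop : centralizer ({c} : Set P) = ⊤ :=
          eq_top_iff.2 fun g _ => mem_centralizer_singleton_iff.2 (hcc g).eq
        exact Or.inr (h.exists_of_index hP hcD hcz (by rw [htop, index_top]; omega))
    · have hall : ∀ d ∈ D, ∀ e ∈ D, Commute d e := fun d hd e he =>
        h.comm c hc hcD d hd e he (hcc d).symm (hcc e).symm
      exact Or.inr (h.exists_of_commuting hP D subset_rfl h.mem ⟨d₀, hd₀, hd₀z⟩ h.conj hall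
        fun a ha b hb hab => h.mulD a ha b hb hab (hall a ha b hb))
  obtain ⟨c, hcN, hco, hcc⟩ : ∃ c ∈ N, orderOf c = 2 ∧ ∀ g : P, Commute g c := by
    haveI : Group.IsNilpotent P := hP.isNilpotent
    have hne : N ≠ ⊥ := fun e => by rw [e, card_bot] at hN4; omega
    obtain ⟨c, hc, hc1⟩ := (Subgroup.bot_or_exists_ne_one (N ⊓ center P)).resolve_left
      (CfsgLib.Coprime.nilpotent_inf_center_ne_bot N hne)
    exact ⟨c, hc.1, orderOf_eq_prime (hNexp c hc.1) hc1, fun g => mem_center_iff.1 hc.2 g⟩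
  rcases hcen c hco hcc with rfl | hdone
  swap
  · exact hdone
  obtain ⟨v, hvN, hv1, hvz⟩ : ∃ v ∈ N, v ≠ 1 ∧ v ≠ c := by
    by_contra hh
    push Not at hh
    have hsub : (N : Set P) ⊆ {1, c} := fun g hg => by
      by_cases h1 : g = 1
      · exact Or.inl h1
      · exact Or.inr (hh g hg h1)
    have := (Set.ncard_le_ncard hsub (Set.toFinite _)).trans (Set.ncard_insert_le _ _)
    rw [Set.ncard_singleton, ← Nat.card_coe_set_eq, SetLike.coe_sort_coe, hN4] at this
    omega
  have hvo : orderOf v = 2 := orderOf_eq_prime (hNexp v hvN) hv1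
  have hvc : Commute v c := hcc v
  have hvc1 : v * c ≠ 1 := fun e => hvz ((eq_inv_of_mul_eq_one_left e).trans (invol_inv hco))
  have hN : ∀ g ∈ N, g = 1 ∨ g = c ∨ g = v ∨ g = v * c := by
    have hsub : ({1, c, v, v * c} : Set P) ⊆ N := by
      rintro g (rfl | rfl | rfl | rfl)
      exacts [one_mem N, hcN, hvN, mul_mem hvN hcN]
    have hc4 : ({1, c, v, v * c} : Set P).ncard = 4 := by
      rw [Set.ncard_insert_of_notMem (by simp [invol_ne_one hco |>.symm, hv1.symm, Ne.symm hvc1]),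
        Set.ncard_insert_of_notMem (by
          simp only [Set.mem_insert_iff, Set.mem_singleton_iff, not_or]
          exact ⟨hvz.symm, fun e => hv1 (right_eq_mul.1 e)⟩),
        Set.ncard_pair (fun e => invol_ne_one hco (left_eq_mul.1 e))]
    have heq := Set.eq_of_subset_of_ncard_le hsub (by
      rw [hc4, ← Nat.card_coe_set_eq, SetLike.coe_sort_coe, hN4]) (Set.toFinite _)
    intro g hg
    have : g ∈ ({1, c, v, v * c} : Set P) := by rw [heq]; exact hg
    simpa using this
  have himg : ∀ g : P, g * v * g⁻¹ = v ∨ g * v * g⁻¹ = v * c := by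
    intro g
    have ne1 : g * v * g⁻¹ ≠ 1 := invol_ne_one (invol_conj hvo g)
    have nec : g * v * g⁻¹ ≠ c := fun e => hvz (by
      calc v = g⁻¹ * (g * v * g⁻¹) * g := by group
        _ = g⁻¹ * c * g := by rw [e]
        _ = c := by rw [mul_assoc, ← (hcc g).eq, inv_mul_cancel_left])
    rcases hN _ (hNn.conj_mem v hvN g) with e | e | e | e
    exacts [absurd e ne1, absurd e nec, Or.inl e, Or.inr e]
  set S0 := centralizer ({v} : Set P) with hS0
  have hS0mem : ∀ g : P, g ∈ S0 ↔ g * v * g⁻¹ = v := fun g => by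
    rw [hS0, mem_centralizer_singleton_iff, mul_inv_eq_iff_eq_mul]
  have hS0mul : ∀ g k : P, g ∉ S0 → k ∉ S0 → g * k ∈ S0 := by
    intro g k hg hk
    rw [hS0mem] at hg hk ⊢
    have hg' := (himg g).resolve_left hg
    have hk' := (himg k).resolve_left hk
    calc g * k * v * (g * k)⁻¹ = g * (k * v * k⁻¹) * g⁻¹ := by group
      _ = g * v * g⁻¹ * (g * c * g⁻¹) := by rw [hk']; group
      _ = v * c * c := by rw [hg', (hcc g).eq, mul_inv_cancel_right]
      _ = v := by rw [mul_assoc, invol_mul_self hco, mul_one]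
  by_cases hvD : v ∈ D
  · haveI : S0.FiniteIndex := ⟨index_ne_zero_of_finite⟩
    refine h.exists_of_index hP hvD hvz ?_
    by_cases htop : S0 = ⊤
    · rw [show centralizer ({v} : Set P) = ⊤ from htop, index_top]; omega
    obtain ⟨g0, hg0⟩ : ∃ g, g ∉ S0 := by
      by_contra hh; push Not at hh; exact htop (eq_top_iff.2 fun g _ => hh g)
    exact le_of_eq (index_eq_two_iff.2 ⟨g0, fun g => by
      by_cases hg : g ∈ S0
      · exact Or.inr ⟨hg, fun hh => hg0 ((mul_mem_cancel_left hg).1 hh)⟩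
      · exact Or.inl ⟨hS0mul g g0 hg hg0, hg⟩⟩)
  by_cases hex : ∃ d ∈ D, d ≠ c ∧ Commute v d
  · obtain ⟨d, hd, hdc, hvd⟩ := hex
    have hnorm : S0.Normal := by
      refine ⟨fun s hs g => ?_⟩
      by_cases hg : g ∈ S0
      · exact mul_mem (mul_mem hg hs) (inv_mem hg)
      · refine hS0mul _ _ (fun hh => hg ((mul_mem_cancel_right hs).1 hh)) (fun hh => hg (by simpa using inv_mem hh))
    refine h.exists_of_commuting hP (D ∩ S0) Set.inter_subset_left
      ⟨h.mem, mem_centralizer_singleton_iff.2 hvc.eq.symm⟩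
      ⟨d, ⟨hd, mem_centralizer_singleton_iff.2 hvd.eq.symm⟩, hdc⟩
      (fun w hw g => ⟨h.conj w hw.1 g, hnorm.conj_mem w hw.2 g⟩) ?_ ?_
    · exact fun a ha b hb => h.comm v hvo hvD a ha.1 b hb.1
        (mem_centralizer_singleton_iff.1 ha.2).symm (mem_centralizer_singleton_iff.1 hb.2).symm
    · exact fun a ha b hb hab => ⟨h.mulD a ha.1 b hb.1 hab (h.comm v hvo hvD a ha.1 b hb.1
        (mem_centralizer_singleton_iff.1 ha.2).symm (mem_centralizer_singleton_iff.1 hb.2).symm),
        mul_mem ha.2 hb.2⟩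
  push Not at hex
  -- members other than `c` lie outside `S0`
  have hout : ∀ d ∈ D, d ≠ c → d ∉ S0 := fun d hd hdc hh =>
    hex d hd hdc (mem_centralizer_singleton_iff.1 hh).symm
  letI := Fintype.ofFinite P
  obtain ⟨u, ⟨hu, huc⟩, hmax⟩ := Set.exists_max_image {u : P | u ∈ D ∧ u ≠ c}
    (fun u => Nat.card (centralizer ({u} : Set P))) (Set.toFinite _) ⟨d₀, hd₀, hd₀z⟩
  have huo := h.invol u hu
  have huS0 := hout u hu huc
  set C := centralizer ({u} : Set P) with hC
  have hCi : 2 < C.index := hsmall u hu huc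
  have hJC : ∀ m ∈ D, m ≠ c → Commute m u → m = u ∨ m = u * c := by
    intro m hm hmc hmu
    by_cases hmne : m = u
    · exact Or.inl hmne
    refine Or.inr ?_
    have hmuS : m * u ∈ S0 := hS0mul _ _ (hout m hm hmc) huS0
    have : m * u = c := by
      by_contra hne
      exact hout _ (h.mulD m hm u hu hmne hmu) hne hmuS
    calc m = m * u * u := by rw [mul_assoc, invol_mul_self huo, mul_one]
      _ = c * u := by rw [this]
      _ = u * c := (hcc u).eq.symm
  have hvu : v * u * v⁻¹ = u * c := by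
    have h1 := (himg u).resolve_left (fun e => huS0 ((hS0mem u).2 e))
    rw [invol_inv huo] at h1
    calc v * u * v⁻¹ = v * (u * v * u) * u := by
          rw [invol_inv hvo, ← mul_assoc v, mul_assoc (v * (u * v)), invol_mul_self huo, mul_one, ← mul_assoc]
      _ = v * (v * c) * u := by rw [h1]
      _ = u * c := by rw [← mul_assoc, invol_mul_self hvo, one_mul, (hcc u).eq]
  -- elements moving `u` inside `{u, u c}`
  have hstab : ∀ g : P, g * u * g⁻¹ = u ∨ g * u * g⁻¹ = u * c → g ∈ C ∨ v⁻¹ * g ∈ C := by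
    rintro g (e | e)
    · exact Or.inl (mem_centralizer_singleton_iff.2 (mul_inv_eq_iff_eq_mul.1 e))
    · refine Or.inr (mem_centralizer_singleton_iff.2 (mul_inv_eq_iff_eq_mul.1 ?_))
      calc v⁻¹ * g * u * (v⁻¹ * g)⁻¹ = v⁻¹ * (g * u * g⁻¹) * v := by group
        _ = v⁻¹ * (v * u * v⁻¹) * v := by rw [e, hvu]
        _ = u := by group
  have hconjC : ∀ g : P, g * u * g⁻¹ = u ∨ g * u * g⁻¹ = u * c → ∀ y ∈ C, g * y * g⁻¹ ∈ C := by
    intro g hg y hy
    rw [hC, mem_centralizer_singleton_iff] at hy ⊢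
    have hyu : Commute y u := hy
    have h1 : Commute (g * y * g⁻¹) (g * u * g⁻¹) := (Commute.conj_iff g).2 hyu
    rcases hg with e | e
    · rw [e] at h1; exact h1.eq
    · rw [e] at h1
      have := h1.mul_right (hcc (g * y * g⁻¹))
      rw [mul_assoc u c c, invol_mul_self hco, mul_one] at this
      exact this.eq
  set N1 := normalizer (C : Set P) with hN1
  have hN1 : ∀ g : P, g ∈ N1 ↔ g ∈ C ∨ v⁻¹ * g ∈ C := by
    intro g
    constructor
    · intro hg
      refine hstab g ?_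
      have hmem : g * u * g⁻¹ ∈ C := (mem_normalizer_iff.1 hg u).1 (mem_centralizer_singleton_iff.2 rfl)
      refine hJC _ (h.conj u hu g) (fun e => huc ?_) (mem_centralizer_singleton_iff.1 hmem)
      calc u = g⁻¹ * (g * u * g⁻¹) * g := by group
        _ = g⁻¹ * c * g := by rw [e]
        _ = c := by rw [mul_assoc, ← (hcc g).eq, inv_mul_cancel_left]
    · have hvN1 : v ∈ N1 := by
        have h1 : ∀ y ∈ C, v * y * v⁻¹ ∈ C := hconjC v (Or.inr hvu)
        refine mem_normalizer_iff.2 fun y => ⟨h1 y, fun hy => ?_⟩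
        have := h1 _ hy
        rw [invol_inv hvo] at this
        simpa [← mul_assoc, invol_mul_self hvo, mul_assoc _ v v] using this
      rintro (hg | hg)
      · exact le_normalizer hg
      · have := mul_mem hvN1 (le_normalizer hg : v⁻¹ * g ∈ N1)
        rwa [mul_inv_cancel_left] at this
  have hN1top : N1 ≠ ⊤ := by
    intro e
    have : C.index ≤ 2 := by
      by_cases hv : v ∈ C
      · have : C = ⊤ := eq_top_iff.2 fun g _ => by
          rcases (hN1 g).1 (e ▸ mem_top g) with hg | hg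
          exacts [hg, by simpa using mul_mem hv hg]
        rw [this, index_top]; omega
      · refine le_of_eq (index_eq_two_iff.2 ⟨v, fun g => ?_⟩)
        by_cases hg : g ∈ C
        · exact Or.inr ⟨hg, fun hh => hv ((mul_mem_cancel_left hg).1 hh)⟩
        · refine Or.inl ⟨?_, hg⟩
          rcases (hN1 (g * v)).1 (e ▸ mem_top _) with h1 | h1
          · exact h1
          · exfalso
            have h2 := hconjC v (Or.inr hvu) _ h1
            rw [show v * (v⁻¹ * (g * v)) * v⁻¹ = g by group] at h2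
            exact hg h2
    omega
  obtain ⟨g, -, hg, hgN1⟩ := exists_mem_normalizer_notMem (hP.to_subgroup ⊤) (le_top : N1 ≤ ⊤)
    (fun hh => hN1top (top_le_iff.1 hh))
  set u' := g * u * g⁻¹ with hu'
  have hu'D : u' ∈ D := h.conj u hu g
  have hu'c : u' ≠ c := fun e => huc (by
    calc u = g⁻¹ * (g * u * g⁻¹) * g := by group
      _ = g⁻¹ * c * g := by rw [← hu', e]
      _ = c := by rw [mul_assoc, ← (hcc g).eq, inv_mul_cancel_left])
  have hu'N : u' ∈ N1 := (mem_normalizer_iff.1 hg u).1 ((hN1 u).2 (Or.inl (mem_centralizer_singleton_iff.2 rfl)))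
  have hw : v⁻¹ * u' ∈ C := ((hN1 u').1 hu'N).resolve_left fun hh => hgN1 <| (hN1 g).2
    (hstab g (hJC u' hu'D hu'c (mem_centralizer_singleton_iff.1 hh)))
  have hsq : (v⁻¹ * u') * (v⁻¹ * u') = c := by
    have h1 := (himg u').resolve_left (fun e => hout u' hu'D hu'c ((hS0mem u').2 e))
    rw [invol_inv (h.invol u' hu'D)] at h1
    rw [invol_inv hvo]
    calc v * u' * (v * u') = v * (u' * v * u') := by group
      _ = c := by rw [h1, ← mul_assoc, invol_mul_self hvo, one_mul]
  have hCtop : C ≠ ⊤ := fun e => by rw [e, index_top] at hCi; omega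
  obtain ⟨c', hc'u, hc'D, hc'z, hc'ne⟩ := h.fusion u hu huc (fun w hw hwc => hmax w ⟨hw, hwc⟩) hCtop _
    (mem_centralizer_singleton_iff.1 hw) hsq
  rcases hJC _ hc'D hc'z (hc'u.mul_left hc'u) with e | e
  · exact absurd e hc'ne
  · exfalso
    refine hout _ hc'D hc'z ?_
    by_cases hh : c' ∈ S0
    · exact mul_mem hh hh
    · exact hS0mul _ _ hh hh

end LoneData

end CfsgLib.SECrit.Lone
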