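import Cfsg.Agent.Lib.Invol.SECriterion.Sub.Crit
import Cfsg.Agent.Lib.Invol.SECriterion.SignKill
import Cfsg.Agent.Lib.Invol.SECriterion.Lone.TwoGroup
import Cfsg.Agent.Lib.Invol.ZStar

/-!
# The strong embedding criterion: lone involutions

A bad involution whose centralizer holds no two commuting distinct conjugates of `z` is outside the
normal closure of `z`.  Without any such pair in `G` this is Glauberman's theorem; with one, a
subgroup of index two of a Sylow subgroup of `C(z)` avoids the class of the involution.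
-/

set_option autoImplicit false
set_option linter.style.haveILetI false

namespace CfsgLib.SECrit

open CfsgLib.Invol Subgroup
open scoped Pointwise

universe u

variable {G : Type u} [Group G] [Finite G] {M : Subgroup G} {z : G}

/-- No two commuting distinct conjugates of `z` commute with `x`. -/
def IsLone (z x : G) : Prop :=
  ∀ d e : G, IsConj z d → IsConj z e → Commute x d → Commute x e → Commute d e → d = e

omit [Finite G] in
theorem IsLone.conj {x y : G} (hl : IsLone z x) (hxy : IsConj x y) : IsLone z y := by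
  intro d e hd he hyd hye hde
  obtain ⟨g, rfl⟩ := isConj_iff.1 hxy
  have key : ∀ a b : G, Commute a b → Commute (g⁻¹ * a * g) (g⁻¹ * b * g) := fun a b hab => by
    simpa using (Commute.conj_iff g⁻¹).2 hab
  have hx : g⁻¹ * (g * x * g⁻¹) * g = x := by group
  have h1 := key _ _ hyd
  have h2 := key _ _ hye
  rw [hx] at h1 h2
  have := hl _ _ (hd.trans (isConj_iff.2 ⟨g⁻¹, by rw [inv_inv]⟩))
    (he.trans (isConj_iff.2 ⟨g⁻¹, by rw [inv_inv]⟩)) h1 h2 (key _ _ hde)
  exact mul_left_cancel (mul_right_cancel this)

theorem Crit.not_isConj_of_bad (h : Crit M z) {x : G} (hx : IsBad M x) : ¬ IsConj z x := fun hc => by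
  obtain ⟨-, p, q, hpq, hp, hq⟩ := hx
  exact hpq (h.fix_unique hc hp hq)

omit [Finite G] in
theorem IsBad.conj {x y : G} (hx : IsBad M x) (hxy : IsConj x y) : IsBad M y := by
  obtain ⟨hxo, p, q, hpq, hp, hq⟩ := hx
  obtain ⟨g, rfl⟩ := isConj_iff.1 hxy
  refine ⟨invol_conj hxo g, g • p, g • q, fun e => hpq (smul_left_cancel g e), ?_, ?_⟩
  · rw [smul_smul, inv_mul_cancel_right, mul_smul, hp]
  · rw [smul_smul, inv_mul_cancel_right, mul_smul, hq]

namespace Setup

variable (h : Setup M z)
include h

/-- Without commuting conjugates of `z` no bad involution is in the normal closure. -/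
theorem not_mem_of_no_pair
    (hnp : ∀ d e : G, IsConj z d → IsConj z e → Commute d e → d = e)
    {x : G} (hx : IsBad M x) : x ∉ normalClosure ({z} : Set G) := by
  intro hmem
  have hzo := h.crit.invol
  have hiso : Cfsg.IsIsolatedInvolution z :=
    ⟨hzo, fun g hg => (hnp z _ (IsConj.refl z) (isConj_iff.2 ⟨g, rfl⟩) hg).symm⟩
  have hcen := CfsgLib.Invol.zstar hiso
  set O := Cfsg.pPrimeCore 2 G with hO
  have hnd : ¬ 2 ∣ Nat.card O := CfsgLib.Coprime.pPrimeCore_not_dvd Nat.prime_two
  haveI : O.Normal := Subgroup.sSup_normal _ fun _ hN => hN.1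
  have hle : normalClosure ({z} : Set G) ≤ O ⊔ zpowers z := by
    refine (closure_le _).2 fun c hc => ?_
    obtain ⟨w, hw, hwc⟩ := Group.mem_conjugatesOfSet_iff.1 hc
    rw [Set.mem_singleton_iff.1 hw] at hwc
    obtain ⟨g, rfl⟩ := isConj_iff.1 hwc
    have h1 := inv_mem (hcen g)
    rw [show g * z * g⁻¹ = (z * g * z⁻¹ * g⁻¹)⁻¹ * z by group]
    exact mul_mem (mem_sup_left h1) (mem_sup_right (mem_zpowers z))
  obtain ⟨n, hn, y, hy, hny⟩ := mem_sup_of_normal_left.1 (hle hmem)
  have hodd : ∀ m ∈ O, Odd (orderOf m) := fun m hm => by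
    rw [Nat.odd_iff]
    have h1 := Subgroup.orderOf_dvd_natCard O hm
    by_contra h2
    exact hnd (dvd_trans (Nat.dvd_of_mod_eq_zero (by omega)) h1)
  obtain ⟨i, hi⟩ := mem_zpowers_iff.1 hy
  have hy' : y = 1 ∨ y = z := by
    rw [← hi, ← zpow_mod_orderOf, hzo]
    rcases Int.emod_two_eq_zero_or_one i with e | e <;> simp [e]
  rcases hy' with e | e <;> rw [e] at hny
  · rw [mul_one] at hny
    have := hodd n hn
    rw [hny, hx.1] at this
    exact Nat.not_even_iff_odd.2 this even_two
  · refine h.crit.not_isConj_of_bad hx ?_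
    have h2 : x * z = n := by rw [← hny, mul_assoc, invol_mul_self hzo, mul_one]
    exact (Invol.isConj_of_odd hx.1 hzo (by rw [h2]; exact hodd n hn)).symm

/-- The avoiding subgroup of index two in a two-group inside `C(z)` of odd index. -/
theorem exists_avoiding {x : G} (hx : IsBad M x) (hl : IsLone z x) {S : Subgroup G} (hS : IsPGroup 2 S)
    (hSi : Odd S.index) (hSz : S ≤ centralizer ({z} : Set G)) (hzS : z ∈ S) {v : G} (hv : IsConj z v)
    (hvz : v ≠ z) (hvS : v ∈ S) : ∃ U : Subgroup S, U.index = 2 ∧ ∀ y : S, y ∈ U → ¬ IsConj x (y : G) := by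
  classical
  haveI : Fact (Nat.Prime 2) := ⟨Nat.prime_two⟩
  have hzg : ∀ g ∈ S, Commute g z := fun g hg => mem_centralizer_singleton_iff.1 (hSz hg)
  set p : G ⧸ M := ((1 : G) : G ⧸ M) with hp
  have hzp : z • p = p := by rw [hp, smul_coe_eq_iff]; simpa using h.crit.mem
  have hSp : ∀ g ∈ S, g • p = p := fun g hg => h.crit.smul_of_commute (IsConj.refl z) (hzg g hg) hzp
  have hco : ∀ {a : S}, orderOf a = 2 ↔ orderOf (a : G) = 2 := fun {a} => by
    rw [Subgroup.orderOf_coe]
  have hcc : ∀ {a b : S}, Commute a b ↔ Commute (a : G) b := fun {a b} =>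
    ⟨fun hh => congrArg Subtype.val hh.eq, fun hh => Subtype.ext hh.eq⟩
  have L : Lone.LoneData (⟨z, hzS⟩ : S) {d : S | IsConj z (d : G)} {y : S | IsConj x (y : G)} := by
    refine
      { central := fun g => hcc.2 (hzg g g.2)
        mem := IsConj.refl z
        invol := fun d hd => hco.2 (h.crit.orderOf_conj hd)
        invol_X := fun y hy => hco.2 (hx.conj hy).1
        conj := fun d hd g => hd.trans (isConj_iff.2 ⟨(g : G), rfl⟩)
        mulD := fun d hd e he hne hde =>
          h.isConj_mul hd he (hcc.1 hde) fun hh => hne (Subtype.ext hh)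
        comm := ?_
        disjoint := fun y hy hyD => h.crit.not_isConj_of_bad (hx.conj hy) hyD
        lone := fun y hy d hd hyd => Subtype.ext
          ((hl.conj hy) (d : G) z hd (IsConj.refl z) (hcc.1 hyd) (hzg _ y.2) (hzg _ d.2))
        fusion := ?_ }
    · intro c hc hcD d hd e he hcd hce
      have hcb : IsBad M (c : G) := by
        refine ⟨hco.1 hc, ?_⟩
        by_contra hh
        push Not at hh
        exact hcD (h.crit.isConj_of_unique_fix h.hfree (hco.1 hc) fun a b ha hb =>
          by_contra fun hab => hh a b hab ha hb)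
      obtain ⟨k, hk⟩ := hS (d * e)
      refine hcc.2 (h.commute_of_two_power hcb hd he (hcc.1 hcd) (hcc.1 hce) (hSp _ d.2) (hSp _ e.2) (k := k) ?_)
      simpa using congrArg Subtype.val hk
    · intro u hu huz hmax hne c hcu hcz
      set CP := centralizer ({u} : Set S) with hCP
      set CG := CP.map S.subtype with hCG
      have hCGS : CG ≤ S := map_subtype_le CP
      have hcardCG : Nat.card CG = Nat.card CP := card_map_of_injective S.subtype_injective
      have hCGu : CG ≤ centralizer ({(u : G)} : Set G) := by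
        rintro _ ⟨y, hy, rfl⟩
        exact mem_centralizer_singleton_iff.2 (hcc.1 (mem_centralizer_singleton_iff.1 hy))
      obtain ⟨g, hg⟩ := isConj_iff.1 (show IsConj z (u : G) from hu)
      set S' := S.map (MulAut.conj g).toMonoidHom with hS'
      have hS'card : Nat.card S' = Nat.card S := card_map_of_injective (MulAut.conj g).injective
      have hS'u : S' ≤ centralizer ({(u : G)} : Set G) := by
        rintro _ ⟨y, hy, rfl⟩
        refine mem_centralizer_singleton_iff.2 ?_
        have := (Commute.conj_iff g).2 (hzg y hy)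
        rw [hg] at this
        exact this.eq
      -- a Sylow subgroup of the centralizer of `u` over `CG`
      have hCG2 : IsPGroup 2 CG := hS.to_le hCGS
      obtain ⟨T, hT⟩ := (hCG2.comap_subtype (K := centralizer ({(u : G)} : Set G))).exists_le_sylow
      set T' := (T : Subgroup (centralizer ({(u : G)} : Set G))).map
        (centralizer ({(u : G)} : Set G)).subtype with hT'
      have hT'2 : IsPGroup 2 T' := T.2.map _
      have hCGT : CG ≤ T' := fun a ha => ⟨⟨a, hCGu ha⟩, hT (by simpa [mem_subgroupOf] using ha), rfl⟩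
      have hT'u : T' ≤ centralizer ({(u : G)} : Set G) := map_subtype_le _
      have hcardT : Nat.card S ≤ Nat.card T' := by
        obtain ⟨R, hR⟩ := ((hS.map (MulAut.conj g).toMonoidHom).comap_subtype
          (K := centralizer ({(u : G)} : Set G))).exists_le_sylow
        have h1 : Nat.card S ≤ Nat.card R := by
          rw [← hS'card, ← Nat.card_congr (subgroupOfEquivOfLe hS'u).toEquiv]
          exact Nat.card_le_card_of_injective _ (Subgroup.inclusion_injective hR)
        have h2 : Nat.card R = Nat.card T := by rw [R.card_eq_multiplicity, T.card_eq_multiplicity]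
        have h3 : Nat.card T' = Nat.card T := card_map_of_injective (Subgroup.subtype_injective _)
        rw [h3, ← h2]
        exact h1
      have hlt : ¬ T' ≤ CG := by
        intro hh
        refine hne (eq_top_of_card_eq CP (le_antisymm (Subgroup.card_le_card_group CP) ?_))
        rw [← hcardCG]
        exact hcardT.trans (Nat.card_le_card_of_injective _ (Subgroup.inclusion_injective hh))
      obtain ⟨k, hkT, hkn, hkC⟩ := CfsgLib.Invol.exists_mem_normalizer_notMem hT'2 hCGT hlt
      have hku : Commute k (u : G) := mem_centralizer_singleton_iff.1 (hT'u hkT)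
      have hcG : (c : G) ∈ CG := ⟨c, mem_centralizer_singleton_iff.2 hcu.eq, rfl⟩
      have hkc : k * (c : G) * k⁻¹ ∈ CG := (mem_normalizer_iff.1 hkn _).1 hcG
      have hkz : ¬ Commute k z := by
        intro hkz
        -- then the centralizer of `u` is not maximal
        set T₁ := CG ⊔ zpowers k with hT₁
        have hT₁T : T₁ ≤ T' := sup_le hCGT (zpowers_le.2 hkT)
        have hT₁z : T₁ ≤ centralizer ({z} : Set G) :=
          sup_le (hCGS.trans hSz) (zpowers_le.2 (mem_centralizer_singleton_iff.2 hkz.eq))
        have hSi' : ¬ 2 ∣ (S.subgroupOf (centralizer ({z} : Set G))).index := fun h2 =>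
          Nat.not_even_iff_odd.2 hSi (even_iff_two_dvd.2 (h2.trans (relIndex_dvd_index_of_le hSz)))
        let Sc : Sylow 2 (centralizer ({z} : Set G)) := (hS.comap_subtype).toSylow hSi'
        obtain ⟨R, hR⟩ := ((hT'2.to_le hT₁T).comap_subtype (K := centralizer ({z} : Set G))).exists_le_sylow
        obtain ⟨m, hm⟩ := MulAction.exists_smul_eq (centralizer ({z} : Set G)) R Sc
        have hmz : Commute (m : G) z := mem_centralizer_singleton_iff.1 m.2
        have hmS : ∀ a ∈ T₁, (m : G) * a * (m : G)⁻¹ ∈ S := by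
          intro a ha
          have h1 : MulAut.conj m • (⟨a, hT₁z ha⟩ : centralizer ({z} : Set G)) ∈
              MulAut.conj m • (R : Subgroup (centralizer ({z} : Set G))) :=
            Subgroup.smul_mem_pointwise_smul _ _ _ (hR (mem_subgroupOf.2 ha))
          rw [← Sylow.pointwise_smul_def, show MulAut.conj m • R = Sc from hm] at h1
          simpa [Sc, mem_subgroupOf, MulAut.smul_def, MulAut.conj_apply] using h1
        have huCG : (u : G) ∈ CG := ⟨u, mem_centralizer_singleton_iff.2 rfl, rfl⟩
        let u' : S := ⟨_, hmS _ (mem_sup_left huCG)⟩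
        have hu' : IsConj z (u' : G) := (show IsConj z (u : G) from hu).trans (isConj_iff.2 ⟨(m : G), rfl⟩)
        have hu'z : u' ≠ ⟨z, hzS⟩ := fun e => huz (Subtype.ext (by
          have e1 : (m : G) * u * (m : G)⁻¹ = z := congrArg Subtype.val e
          calc (u : G) = (m : G)⁻¹ * ((m : G) * u * (m : G)⁻¹) * m := by group
            _ = z := by rw [e1, mul_assoc, ← hmz.eq, inv_mul_cancel_left]))
        have hTu : T₁ ≤ centralizer ({(u : G)} : Set G) := hT₁T.trans hT'u
        let f : T₁ → centralizer ({u'} : Set S) := fun a =>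
          ⟨⟨_, hmS a a.2⟩, mem_centralizer_singleton_iff.2 (hcc.2
            ((Commute.conj_iff (m : G)).2 (mem_centralizer_singleton_iff.1 (hTu a.2)))).eq⟩
        have hf : Function.Injective f := fun a b e =>
          Subtype.ext (mul_left_cancel (mul_right_cancel (congrArg (fun t => ((t.1 : S) : G)) e)))
        have h1 : Nat.card T₁ ≤ Nat.card CP :=
          (Nat.card_le_card_of_injective f hf).trans (hmax u' hu' hu'z)
        have h2 : CG < T₁ := lt_of_le_of_ne le_sup_left fun e =>
          hkC (e ▸ mem_sup_right (mem_zpowers k))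
        rw [← hcardCG] at h1
        exact h2.ne (eq_of_le_of_card_ge h2.le h1)
      obtain ⟨c', hc', hc'e⟩ := hkc
      have hsq : ((c' * c' : S) : G) = k * z * k⁻¹ := by
        have e1 : ((c : G)) * c = z := congrArg Subtype.val hcz
        change (c' : G) * c' = k * z * k⁻¹
        rw [show (c' : G) = k * c * k⁻¹ from hc'e, ← e1]
        group
      refine ⟨c', mem_centralizer_singleton_iff.1 hc', ?_, fun e => hkz ?_, fun e => huz ?_⟩
      · show IsConj z _
        rw [hsq]
        exact isConj_iff.2 ⟨k, rfl⟩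
      · exact mul_inv_eq_iff_eq_mul.1 (hsq.symm.trans (congrArg Subtype.val e))
      · refine Subtype.ext ?_
        have e1 : k * z * k⁻¹ = (u : G) := hsq.symm.trans (congrArg Subtype.val e)
        calc (u : G) = k⁻¹ * (k * u * k⁻¹) * k := by group
          _ = k⁻¹ * (u : G) * k := by rw [hku.eq, mul_inv_cancel_right]
          _ = z := by rw [← e1]; group
  obtain ⟨U, hU2, hU⟩ := L.exists_avoiding hS ⟨⟨v, hvS⟩, hv, fun e => hvz (congrArg Subtype.val e)⟩
  exact ⟨U, hU2, fun y hy hc => hU y hy hc⟩

/-- **Lone involutions.** -/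
theorem lone_not_mem {x : G} (hx : IsBad M x) (hl : IsLone z x) : x ∉ normalClosure ({z} : Set G) := by
  classical
  haveI : Fact (Nat.Prime 2) := ⟨Nat.prime_two⟩
  by_cases hnp : ∀ d e : G, IsConj z d → IsConj z e → Commute d e → d = e
  · exact h.not_mem_of_no_pair hnp hx
  push Not at hnp
  obtain ⟨d, e, hd, he, hde, hne⟩ := hnp
  obtain ⟨g, rfl⟩ := isConj_iff.1 hd
  set v := g⁻¹ * e * g with hv
  have hvc : IsConj z v := he.trans (isConj_iff.2 ⟨g⁻¹, by rw [inv_inv]⟩)
  have hzv : Commute z v := by
    have := (Commute.conj_iff g⁻¹).2 hde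
    rwa [inv_inv, show g⁻¹ * (g * z * g⁻¹) * g = z by group] at this
  have hvz : v ≠ z := fun e1 => hne (by rw [← e1, hv]; group)
  set Cz := centralizer ({z} : Set G) with hCz
  have hpg : IsPGroup 2 (zpowers v ⊔ zpowers z : Subgroup G) :=
    (Crit.isPGroup_zpowers_invol (h.crit.orderOf_conj hvc)).to_sup_of_normal_right'
      (Crit.isPGroup_zpowers_invol h.crit.invol) (by
        refine zpowers_le.2 (mem_normalizer_iff.2 fun a => ?_)
        have : ∀ b ∈ zpowers z, v * b * v⁻¹ = b := fun b hb => by
          obtain ⟨i, rfl⟩ := mem_zpowers_iff.1 hb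
          rw [((hzv.zpow_left i).symm).eq, mul_inv_cancel_right]
        exact ⟨fun ha => by rw [this a ha]; exact ha, fun ha => by
          have h1 := this _ ha
          rw [mul_left_cancel (mul_right_cancel h1)] at ha
          exact ha⟩)
  obtain ⟨S₀, hS₀⟩ := (hpg.comap_subtype (K := Cz)).exists_le_sylow
  set S := (S₀ : Subgroup Cz).map Cz.subtype with hS
  have hSz : S ≤ Cz := map_subtype_le _
  have hSi : Odd S.index := by
    rw [hS, index_map_subtype]
    refine Odd.mul ?_ h.crit.sylow
    rw [Nat.odd_iff]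
    have := S₀.not_dvd_index
    omega
  have hzS : z ∈ S := ⟨⟨z, mem_centralizer_singleton_iff.2 rfl⟩,
    hS₀ (mem_subgroupOf.2 (mem_sup_right (mem_zpowers z))), rfl⟩
  have hvS : v ∈ S := ⟨⟨v, mem_centralizer_singleton_iff.2 hzv.eq.symm⟩,
    hS₀ (mem_subgroupOf.2 (mem_sup_left (mem_zpowers v))), rfl⟩
  obtain ⟨U, hU2, hU⟩ := h.exists_avoiding hx hl (S₀.2.map _) hSi hSz hzS hvc hvz hvS
  have hzp : z • ((1 : G) : G ⧸ M) = ((1 : G) : G ⧸ M) := by
    rw [smul_coe_eq_iff]; simpa using h.crit.mem
  have hCM : Cz ≤ M := fun c hc => by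
    have := h.crit.smul_of_commute (IsConj.refl z) (mem_centralizer_singleton_iff.1 hc) hzp
    rw [smul_coe_eq_iff] at this
    simpa using this
  have hSM : S ≤ M := hSz.trans hCM
  have hUS : U.map S.subtype ≤ S := map_subtype_le U
  refine h.crit.not_mem_of_index hx.1 (IsConj.refl z) hvc h.crit.mem (hSM hvS)
    (h.isConj_mul (IsConj.refl z) hvc hzv hvz.symm) ((U.map S.subtype).subgroupOf M) ?_ ?_
  · show (U.map S.subtype).relIndex M % 4 = 2
    rw [← relIndex_mul_relIndex _ S M hUS hSM,
      show (U.map S.subtype).relIndex S = U.index by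
        rw [relIndex, subgroupOf, comap_map_eq_self_of_injective S.subtype_injective], hU2]
    have h1 : Odd (S.relIndex M) := hSi.of_dvd_nat (relIndex_dvd_index_of_le hSM)
    rw [Nat.odd_iff] at h1
    omega
  · intro y hy hc
    obtain ⟨a, ha, hay⟩ := mem_subgroupOf.1 hy
    exact hU a ha (by rw [show (a : G) = (y : G) from hay]; exact hc)

/-- It suffices to treat the bad involutions whose centralizer holds a commuting pair. -/
theorem concl_of_pair
    (hbad : ∀ x : G, IsBad M x → ∀ d e : G, IsConj z d → IsConj z e → Commute x d → Commute x e →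
      Commute d e → d ≠ e → x ∉ normalClosure ({z} : Set G)) : Concl M z := by
  refine h.concl_of_bad fun x hx => ?_
  by_cases hl : IsLone z x
  · exact h.lone_not_mem hx hl
  · simp only [IsLone] at hl
    push Not at hl
    obtain ⟨d, e, hd, he, hxd, hxe, hde, hne⟩ := hl
    exact hbad x hx d e hd he hxd hxe hde hne

end Setup

end CfsgLib.SECrit
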